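import Cfsg.Prelude.Def_Classical
import Mathlib.FieldTheory.Finite.GaloisField
import Mathlib.GroupTheory.QuotientGroup.Basic

/-! The projective special unitary group depends on the field only up to isomorphism. -/

set_option autoImplicit false

namespace Cfsg.Agent.PSUField

open Matrix

theorem nonempty_congr {n q : ℕ} {F K : Type*} [Field F] [Field K] (e : F ≃+* K) :
    Nonempty (Cfsg.PSU n F q ≃* Cfsg.PSU n K q) := by
  have hh : ∀ (A : SpecialLinearGroup (Fin n) F) (u : Fin n → F),
      (Cfsg.slToMat n K (SpecialLinearGroup.map e.toRingHom A)).mulVec (fun i => e (u i)) =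
      fun i => e ((Cfsg.slToMat n F A).mulVec u i) := by
    intro A u
    funext i
    show ((SpecialLinearGroup.map e.toRingHom A : SpecialLinearGroup (Fin n) K) :
        Matrix (Fin n) (Fin n) K).mulVec (fun i => e (u i)) i = e ((A : Matrix (Fin n) (Fin n) F).mulVec u i)
    simp [Matrix.mulVec, dotProduct, map_sum]
  have hform : ∀ u v : Fin n → F, Cfsg.hermForm n K q (fun i => e (u i)) (fun i => e (v i)) =
      e (Cfsg.hermForm n F q u v) := fun u v => by simp [Cfsg.hermForm, map_sum]
  have hinv : ∀ A : SpecialLinearGroup (Fin n) F,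
      SpecialLinearGroup.map e.toRingHom A ∈ Cfsg.SU n K q ↔ A ∈ Cfsg.SU n F q := by
    intro A
    constructor
    · intro h u v
      refine e.injective ?_
      rw [← hform, ← hform]
      have h' := h (fun i => e (u i)) (fun i => e (v i))
      change Cfsg.hermForm n K q (Matrix.mulVec _ _) (Matrix.mulVec _ _) = _ at h'
      rw [hh, hh] at h'
      exact h'
    · intro h u v
      have eu : ∀ w : Fin n → K, (fun i => e (e.symm (w i))) = w := fun w => funext fun i => e.apply_symm_apply _
      rw [← eu u, ← eu v]
      show Cfsg.hermForm n K q (Matrix.mulVec _ _) (Matrix.mulVec _ _) = _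
      rw [hh, hh, hform, hform]
      exact congrArg e (h _ _)
  let f : Cfsg.SU n F q →* Cfsg.SU n K q :=
    ((SpecialLinearGroup.map e.toRingHom).comp (Cfsg.SU n F q).subtype).codRestrict _
      fun A => (hinv _).2 A.2
  have hcomp : ∀ A : SpecialLinearGroup (Fin n) K,
      SpecialLinearGroup.map e.toRingHom (SpecialLinearGroup.map e.symm.toRingHom A) = A := fun A => by
    ext i j; simp
  have hb : Function.Bijective f := by
    constructor
    · intro A B h
      refine Subtype.ext ?_
      ext i j
      have h1 := congrArg (fun X : Cfsg.SU n K q => e.symm ((X.1 : Matrix (Fin n) (Fin n) K) i j)) h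
      simpa [f] using h1
    · intro B
      refine ⟨⟨SpecialLinearGroup.map e.symm.toRingHom B.1, (hinv _).1 ?_⟩, Subtype.ext (hcomp _)⟩
      rw [hcomp]; exact B.2
  let E := MulEquiv.ofBijective f hb
  have hcen : (Subgroup.center (Cfsg.SU n F q)).map E.toMonoidHom = Subgroup.center (Cfsg.SU n K q) := by
    ext x
    simp only [Subgroup.mem_map, Subgroup.mem_center_iff]
    constructor
    · rintro ⟨y, hy, rfl⟩ g
      obtain ⟨g, rfl⟩ := E.surjective g
      exact (map_mul E g y).symm.trans ((congrArg E (hy g)).trans (map_mul E y g))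
    · intro hx
      refine ⟨E.symm x, fun g => E.injective ?_, E.apply_symm_apply x⟩
      rw [map_mul, map_mul, E.apply_symm_apply]
      exact hx (E g)
  exact ⟨QuotientGroup.congr _ _ E hcen⟩

end Cfsg.Agent.PSUField
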